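import Cfsg.Agent.H38.K4.Scheme
import Cfsg.Agent.H187.Scheme.HN
import Cfsg.Agent.H329.K4.SigCol
import Cfsg.Agent.H740.K4.Basic
import Cfsg.Agent.H714.K4.Defs
import Cfsg.Agent.H113.NormTwoChar
import Cfsg.Agent.H989.TwoCSpor
import Cfsg.Agent.S1701
import Cfsg.Agent.S0165

/-!
# K4 rows (S4947, S4547): HN (helper38)

The permutation character of degree `1539000` has rank nine and eight rational constituents of the degrees
`1, 12749, 16929, 267520, 653125, 365750, 214016, 8910`; `12749 = 11 * 19 * 61` does not divide the order, so the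
second one is the sum of two irreducible characters and the others are irreducible.  One of the two is real, of odd
degree and fixed by the cubing automorphism, and has a degree divisible by `11`.  With `16929` and `653125` these are
three characters which vanish at the elements of order `11`.
-/

set_option autoImplicit false
set_option linter.style.longLine false

namespace Cfsg.Agent.H38.K4

open Cfsg Cfsg.Agent.Characters.Core Cfsg.Agent.H601.K4 Cfsg.Agent.H601.OddDeg

universe u v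

section tools

variable {S : Type u} [Group S]

theorem charDegree_eq {χ : S → ℂ} {n : ℕ} (h : χ 1 = n) : charDegree χ = n :=
  Cfsg.Agent.Blocks.Basic.charDegree_of_eq h

/-- `p`-defect zero for a group whose order is divisible by `p` only once -/
theorem vanish [Finite S] {χ : S → ℂ} (hχ : IsIrrCharacter S χ) {p : ℕ} (hp : p.Prime) (h1 : p ∣ Nat.card S)
    (h2 : ¬ p ^ 2 ∣ Nat.card S) (hd : p ∣ charDegree χ) {t : S} (ht : p ∣ orderOf t) : χ t = 0 := by
  obtain ⟨k, ρ, hρ, rfl⟩ := hχ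
  have e1 : ρ.character 1 = (Module.finrank ℂ (Fin k → ℂ) : ℂ) := Representation.char_one ρ
  have e2 : charDegree ρ.character = Module.finrank ℂ (Fin k → ℂ) := Blocks.Knorr.charDegree_of_natCast e1
  have hd' : p ^ 1 ∣ Module.finrank ℂ (Fin k → ℂ) := by rw [← e2, pow_one]; exact hd
  have := hρ
  exact S0165.result ρ p 1 hp (by rwa [pow_one]) h2 hd' t ht

theorem oddIrr_comp {T : Type v} [Group T] (e : T ≃* S) {χ : S → ℂ} (h : OddIrr χ) :
    OddIrr (fun t : T => χ (e t)) := by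
  refine ⟨isIrr_comp e.toMonoidHom e.surjective h.1, ?_⟩
  have h1 : charDegree (fun t : T => χ (e t)) = charDegree χ := by
    show ⌊(χ (e 1)).re⌋₊ = ⌊(χ 1).re⌋₊
    rw [map_one]
  rw [h1]
  exact h.2

theorem sigFix_comp {T : Type v} [Group T] (e : T ≃* S) {χ : S → ℂ} (h : SigFix χ) :
    SigFix (fun t : T => χ (e t)) := by
  intro k h2 h3 g
  show χ (e (g ^ k)) = χ (e g)
  rw [map_pow]
  refine h k (fun s hs => ?_) (fun s hs => ?_) (e g)
  · have h4 := h2 (e.symm s) (by rw [MulEquiv.orderOf_eq]; exact hs)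
    have h5 := congrArg e h4
    simpa using h5
  · have h4 := h3 (e.symm s) (by rw [MulEquiv.orderOf_eq]; exact hs)
    have h5 := congrArg e h4
    simpa using h5

/-- A good character of helper740. -/
theorem of_h740 [Finite S] {k : ℕ} (hk : Cfsg.Agent.H618.Sigma.Cube S k) {χ : IrrCharacter S}
    (h : H740.K4.Good k (χ : S → ℂ)) : OddIrr (χ : S → ℂ) ∧ SigFix (χ : S → ℂ) :=
  ⟨⟨χ.2, fun h2 => (Nat.not_even_iff_odd.2 h.2.1) (even_iff_two_dvd.2 h2)⟩, H329.K4.sigFix_of_cube hk h.2.2⟩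

/-- A character of odd degree with rational values. -/
theorem of_rat [Finite S] {χ : S → ℂ} (hχ : IsIrrCharacter S χ) {n : ℕ} (hn : χ 1 = n) (hodd : n % 2 = 1)
    (hq : ∀ g, ∃ q : ℚ, χ g = q) : OddIrr χ ∧ SigFix χ := by
  refine ⟨⟨hχ, ?_⟩, H329.K4.sigFix_of_rat (isIrr_isCharacter hχ) hq⟩
  rw [charDegree_eq hn]
  omega

/-- **A rational character of odd degree and of norm two** is the sum of a real irreducible character of odd degree,
fixed by the cubing automorphism, and another irreducible character. -/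
theorem norm_two [Fintype S] {Ψ : S → ℂ} (hΨ : IsCharacter S Ψ) (h2 : classInner Ψ Ψ = 2) {n : ℕ} (hn : Ψ 1 = n)
    (hodd : Odd n) (hq : ∀ g, ∃ q : ℚ, Ψ g = q) :
    ∃ a b : S → ℂ, (OddIrr a ∧ SigFix a) ∧ (∀ g, (a g).im = 0) ∧ IsIrrCharacter S b ∧ a ≠ b ∧ Ψ = a + b := by
  obtain ⟨k, hk⟩ := H329.K4.exists_cube S
  have hr : ∀ g, (Ψ g).im = 0 := by
    intro g
    obtain ⟨q, hq⟩ := hq g
    rw [hq]
    exact Complex.ratCast_im q
  have hs : ∀ g, Ψ (g ^ k) = Ψ g := by
    intro g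
    obtain ⟨σ, hσ⟩ := Cfsg.Agent.Characters.GaloisBasic.exists_ringEquiv_of_coprime hk.coprime
    obtain ⟨q, hq⟩ := hq g
    rw [← hσ Ψ hΨ g, hq, map_ratCast]
  obtain ⟨g, hg, hm⟩ := H740.K4.exists_good hk hΨ hn hodd hr hs
  obtain ⟨a, b, ha, hb, hab, e⟩ := H113.NormTwoChar.exists_add_of_norm_two hΨ h2
  have hne : classInner Ψ (g : S → ℂ) ≠ 0 := by
    rw [H740.K4.mul_spec hΨ]
    intro h0
    have h3 : H740.K4.mul Ψ g = 0 := by exact_mod_cast h0
    rw [h3] at hm
    exact (by decide : ¬ Odd 0) hm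
  by_cases h3 : a = (g : S → ℂ)
  · refine ⟨a, b, ?_, ?_, hb, hab, e⟩
    · rw [h3]
      exact of_h740 hk hg
    · rw [h3]
      exact hg.1
  by_cases h4 : b = (g : S → ℂ)
  · refine ⟨b, a, ?_, ?_, ha, hab.symm, by rw [e, add_comm]⟩
    · rw [h4]
      exact of_h740 hk hg
    · rw [h4]
      exact hg.1
  exfalso
  apply hne
  rw [e, classInner_add_left, classInner_irr_ne ha g.2 h3, classInner_irr_ne hb g.2 h4, add_zero]

/-- Five good characters give the first row of S4947. -/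
theorem rowA_of_odd5 [Finite S] (h : Odd5 S) : H714.K4.RowA S := by
  classical
  obtain ⟨χ, h1, h2⟩ := h
  refine H714.K4.rowA_of_finset (Finset.univ.image χ) ?_ ?_
  · rw [Finset.card_image_of_injective _ h1]
    simp
  · intro ψ hψ
    obtain ⟨i, -, rfl⟩ := Finset.mem_image.1 hψ
    exact h2 i

end tools

end Cfsg.Agent.H38.K4

namespace Cfsg.Agent.H38.K4.HN

open Cfsg Cfsg.Agent.Characters.Core Cfsg.Agent.H601.K4 Cfsg.Agent.H601.OddDeg Cfsg.Agent.H443.HN.Scheme
  Cfsg.Agent.H443.HN.Frame Cfsg.Agent.HN.Distinct Cfsg.Agent.HN Cfsg.Agent.HN.DCover Cfsg.Agent.H187.Scheme.HN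

universe u

/-- the characters -/
theorem chars_rat [Fintype G] : ∃ (χ : Fin 8 → G → ℂ) (N : Fin 8 → Fin 8 → ℕ), (∀ s, IsCharacter G (χ s)) ∧
    (∀ s, χ s 1 = nn s) ∧ (∀ g : G, ∑ s, χ s g = Nat.card (MulAction.fixedBy V g)) ∧
    (∀ s g, ∃ q : ℚ, χ s g = q) ∧ (∀ s t, classInner (χ s) (χ t) = N s t) ∧ (∀ s, 0 < N s s) ∧
    ∑ s, ∑ t, N s t ≤ 9 := by
  refine Cfsg.Agent.H38.K4.Scheme.main_rat (G := G) (ty := ty) (K := K) (i0 := 0) (i1 := 1) ty_zero ty_one count
    ty_smul ty_trans L th ok eig pp prod_eq pp_ne cc DD cp sum_eq DD_ne nn (fun s => ?_) nn_ne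
  rw [Nat.card_eq_fintype_card, Cfsg.Agent.H443.HN.Row.card_V]
  exact nn_eq s

theorem num_aux : ∀ a < 113, ∀ b < 113, (113 * a + b) % 2 = 1 → 273030912000000 % (113 * a + b) = 0 →
    273030912000000 % (12749 - (113 * a + b)) = 0 → (113 * a + b) % 11 = 0 := by
  decide +kernel

/-- the possible degrees -/
theorem num {d e : ℕ} (hde : d + e = 12749) (hodd : ¬ 2 ∣ d) (hd : d ∣ 273030912000000)
    (he : e ∣ 273030912000000) : 11 ∣ d := by
  have h1 : 113 * (d / 113) + d % 113 = d := Nat.div_add_mod d 113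
  have h2 := num_aux (d / 113) (by omega) (d % 113) (by omega)
  rw [h1] at h2
  have h3 : e = 12749 - d := by omega
  rw [h3] at he
  exact Nat.dvd_of_mod_eq_zero (h2 (by omega) (Nat.mod_eq_zero_of_dvd hd) (Nat.mod_eq_zero_of_dvd he))

theorem card_G : Nat.card G = 273030912000000 := Cfsg.Agent.S1701.result.2

/-- the three characters -/
theorem three : ∃ a b c : Cfsg.Spor.HN → ℂ, (OddIrr a ∧ SigFix a) ∧ (OddIrr b ∧ SigFix b) ∧ (OddIrr c ∧ SigFix c) ∧
    a ≠ b ∧ a ≠ c ∧ b ≠ c ∧ ∀ t : Cfsg.Spor.HN, 11 ∣ orderOf t → a t = 0 ∧ b t = 0 ∧ c t = 0 := by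
  have : Finite G := Nat.finite_of_card_ne_zero (by rw [card_G]; norm_num)
  have := Fintype.ofFinite G
  obtain ⟨χ, N, h1, h2, -, h4, h5, h6, h7⟩ := chars_rat
  have hirr : ∀ s, N s s = 1 → IsIrrCharacter G (χ s) := fun s h =>
    isIrr_of_classInner_self (h1 s) (by rw [h5, h, Nat.cast_one])
  have hne : N 1 1 ≠ 1 := by
    intro h
    have h8 := Blocks.Knorr.charDegree_dvd (hirr 1 h)
    rw [charDegree_eq (h2 1), card_G] at h8
    revert h8
    show ¬ (12749 ∣ 273030912000000)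
    norm_num
  have h11 : N 1 1 = 2 ∧ N 2 2 = 1 ∧ N 4 4 = 1 := by
    simp only [Fin.sum_univ_eight] at h7
    have e0 := h6 0
    have e1 := h6 1
    have e2 := h6 2
    have e3 := h6 3
    have e4 := h6 4
    have e5 := h6 5
    have e6 := h6 6
    have e7 := h6 7
    omega
  obtain ⟨a, b, ha, -, hb, -, hab⟩ := norm_two (h1 1) (by rw [h5, h11.1]; norm_num) (h2 1) (by decide) (h4 1)
  have hi2 := hirr 2 h11.2.1
  have hi4 := hirr 4 h11.2.2
  have hdeg : charDegree a + charDegree b = 12749 := by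
    have h8 := congrFun hab 1
    rw [h2 1, Pi.add_apply, Cfsg.Agent.Blocks.Basic.irr_one_eq_charDegree ha.1.1,
      Cfsg.Agent.Blocks.Basic.irr_one_eq_charDegree hb] at h8
    have h9 : nn 1 = charDegree a + charDegree b := by exact_mod_cast h8
    exact h9.symm
  have hda : 11 ∣ charDegree a := by
    refine num hdeg ha.1.2 ?_ ?_
    · have := Blocks.Knorr.charDegree_dvd ha.1.1
      rwa [card_G] at this
    · have := Blocks.Knorr.charDegree_dvd hb
      rwa [card_G] at this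
  have d2 : charDegree (χ 2) = 16929 := charDegree_eq (h2 2)
  have d4 : charDegree (χ 4) = 653125 := charDegree_eq (h2 4)
  have hp : Nat.Prime 11 := by norm_num
  have hc1 : 11 ∣ Nat.card G := by rw [card_G]; norm_num
  have hc2 : ¬ 11 ^ 2 ∣ Nat.card G := by rw [card_G]; norm_num
  refine ⟨a, χ 2, χ 4, ha, of_rat hi2 (h2 2) rfl (h4 2), of_rat hi4 (h2 4) rfl (h4 4), ?_, ?_, ?_, ?_⟩
  · intro h
    rw [← h] at d2
    omega
  · intro h
    rw [← h] at d4
    omega
  · intro h
    rw [h, d4] at d2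
    omega
  · intro t ht
    refine ⟨vanish ha.1.1 hp hc1 hc2 hda ht, vanish hi2 hp hc1 hc2 ?_ ht, vanish hi4 hp hc1 hc2 ?_ ht⟩
    · rw [d2]
      norm_num
    · rw [d4]
      norm_num

/-- **[row] HN** : five good characters -/
theorem good5 {S : Type u} [Group S] (h : Cfsg.Spor.IsoHN S) : Good5 S := by
  have hC := Cfsg.Agent.H989.TwoCSpor.twoC_hn h
  obtain ⟨e⟩ := h
  have hcard : Nat.card S = 273030912000000 := by rw [Nat.card_congr e.toEquiv]; exact card_G
  have : Finite S := Nat.finite_of_card_ne_zero (by rw [hcard]; norm_num)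
  obtain ⟨a, b, c, ha, hb, hc, hab, hac, hbc, hv⟩ := three
  have hinj : ∀ {x y : Cfsg.Spor.HN → ℂ}, x ≠ y → (fun s : S => x (e s)) ≠ (fun s : S => y (e s)) := by
    intro x y hxy h1
    apply hxy
    funext g
    have h2 := congrFun h1 (e.symm g)
    simpa using h2
  have hp : Fact (Nat.Prime 11) := ⟨by norm_num⟩
  obtain ⟨t, ht⟩ := exists_prime_orderOf_dvd_card' (G := S) 11 (by rw [hcard]; norm_num)
  obtain ⟨v1, v2, v3⟩ := hv (e t) (by rw [MulEquiv.orderOf_eq, ht])
  exact H329.K4.good5_of_four hC (by rw [hcard]; decide)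
    (H329.K4.good_of hC (oddIrr_comp e ha.1) (sigFix_comp e ha.2))
    (H329.K4.good_of hC (oddIrr_comp e hb.1) (sigFix_comp e hb.2))
    (H329.K4.good_of hC (oddIrr_comp e hc.1) (sigFix_comp e hc.2)) (hinj hab) (hinj hac) (hinj hbc)
    (t := t) (by rw [ht]; decide) v1 v2 v3

/-- **[row] HN** -/
theorem odd5 {S : Type u} [Group S] (h : Cfsg.Spor.IsoHN S) : Odd5 S := (good5 h).odd5

/-- **[row] HN** -/
theorem rowA {S : Type u} [Group S] (h : Cfsg.Spor.IsoHN S) : H714.K4.RowA S := by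
  have h5 := odd5 h
  obtain ⟨e⟩ := h
  have hcard : Nat.card S = 273030912000000 := by rw [Nat.card_congr e.toEquiv]; exact card_G
  have : Finite S := Nat.finite_of_card_ne_zero (by rw [hcard]; norm_num)
  exact rowA_of_odd5 h5

end Cfsg.Agent.H38.K4.HN
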